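import Cfsg.Agent.H891.DG.WrBasic

/-!
# TEAM GEN, S4180: the pieces Wa, Wb of the counting argument (helper332)
-/

set_option autoImplicit false
set_option linter.unusedSectionVars false

namespace Cfsg.Agent.H332.DG

open Subgroup Cfsg.Agent.H891.DG Cfsg.Agent.H891.DG.WrB
universe u

variable {G : Type u} [Group G] [Finite G] {M : Subgroup G} [M.Normal] {I T : Type u} [Fintype I] [DecidableEq I]
  [Group T] [Finite T] [IsSimpleGroup T] (W : Wr G M I T)

theorem inv_iff {S : Setoid I} (hI : Inv W S) (g : G) (i j : I) : S (W.σ g i) (W.σ g j) ↔ S i j := by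
  constructor
  · intro h
    have h1 := hI g⁻¹ _ _ h
    rwa [σ_inv, σ_inv] at h1
  · exact hI g i j

/-- (Wa) the number of classes of an invariant relation -/
theorem two_mul_card_quot {S : Setoid I} (hI : Inv W S) (hne : S ≠ ⊥) (i₀ : I) :
    Nat.card (Quotient S) * Nat.card {i // S i₀ i} = Fintype.card I ∧ 2 ≤ Nat.card {i // S i₀ i} := by
  classical
  constructor
  · have e : ∀ q : Quotient S, Nat.card {i : I // Quotient.mk S i = q} = Nat.card {i // S i₀ i} := by
      intro q
      obtain ⟨g, hg⟩ := W.trans i₀ q.out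
      symm
      refine Nat.card_congr ((W.σ g).subtypeEquiv fun i => ?_)
      rw [← inv_iff W hI g, hg]
      constructor
      · intro h
        rw [← Quotient.out_eq q]
        exact (Quotient.sound h).symm
      · intro h
        rw [← Quotient.out_eq q] at h
        exact Quotient.exact h.symm
    rw [← Nat.card_eq_fintype_card, ← Nat.card_congr (Equiv.sigmaFiberEquiv (Quotient.mk S)), Nat.card_sigma,
      Finset.sum_congr rfl fun q _ => e q, Finset.sum_const, Finset.card_univ, smul_eq_mul, Nat.card_eq_fintype_card]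
  · obtain ⟨a, b, hab, hne'⟩ : ∃ a b, S a b ∧ a ≠ b := by
      by_contra hcon
      push Not at hcon
      apply hne
      ext a b
      constructor
      · intro h
        exact hcon a b h
      · intro h
        have h' : a = b := h
        rw [h']
    obtain ⟨g, hg⟩ := W.trans a i₀
    have : Nontrivial {i // S i₀ i} := by
      refine ⟨⟨⟨i₀, S.refl i₀⟩, ⟨W.σ g b, ?_⟩, ?_⟩⟩
      · rw [← hg]
        exact hI g _ _ hab
      · intro h
        have h1 : i₀ = W.σ g b := congrArg Subtype.val h
        rw [← hg] at h1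
        exact hne' ((W.σ g).injective h1)
    exact Finite.one_lt_card

/-- (Wa) an invariant relation is determined by the class of `i₀` -/
theorem inv_ext {S S' : Setoid I} (hI : Inv W S) (hI' : Inv W S') (i₀ : I) (h : ∀ i, S i₀ i ↔ S' i₀ i) : S = S' := by
  ext i j
  obtain ⟨g, hg⟩ := W.trans i i₀
  rw [← inv_iff W hI g, ← inv_iff W hI' g, hg]
  exact h _

omit [Finite G] [M.Normal] in
theorem rep_rep (S : Setoid I) (i : I) : rep S (rep S i) = rep S i := by
  unfold rep
  rw [Quotient.out_eq]

/-- the number of the representatives -/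
theorem card_rep (S : Setoid I) : Nat.card {i : I // rep S i ≠ i} = Fintype.card I - Nat.card (Quotient S) := by
  classical
  have h1 : Nat.card {i : I // rep S i = i} = Nat.card (Quotient S) :=
    Nat.card_congr
      { toFun := fun i => Quotient.mk S i.1
        invFun := fun q => ⟨q.out, by
          unfold rep
          rw [Quotient.out_eq]⟩
        left_inv := fun i => Subtype.ext i.2
        right_inv := fun q => Quotient.out_eq q }
  rw [← h1, Nat.card_eq_fintype_card, Nat.card_eq_fintype_card]
  exact Fintype.card_subtype_compl _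

/-- the component at `i` from the component at the representative -/
theorem comp_eq (hna : ¬ IsMulCommutative T) {x : G} {u u' : I → T} {ε : I → MulAut T} {i r : I}
    (hr : u r = u' r)
    (h : W.f (x * el W u) i * ε i = ε (W.σ (x * el W u) i) * (ε (W.σ (x * el W u) r))⁻¹ * W.f (x * el W u) r)
    (h' : W.f (x * el W u') i * ε i = ε (W.σ (x * el W u') i) * (ε (W.σ (x * el W u') r))⁻¹ * W.f (x * el W u') r) :
    u i = u' i := by
  rw [σ_mul_mem W x (el_mem W u), f_mul_mem W x (el_mem W u), f_mul_mem W x (el_mem W u), f_el, f_el, hr] at h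
  rw [σ_mul_mem W x (el_mem W u'), f_mul_mem W x (el_mem W u'), f_mul_mem W x (el_mem W u'), f_el, f_el, ← h] at h'
  exact conj_injective hna (mul_left_cancel (mul_right_cancel h')).symm

/-- (Wb) -/
theorem card_typeII (hna : ¬ IsMulCommutative T) (x y : G) (R : Set G) (S : Setoid I) :
    Nat.card {uv : (I → T) × (I → T) // TypeII W (XX W x y R uv) S} ≤
      Nat.card (MulAut T) ^ (Fintype.card I - Nat.card (Quotient S)) * Nat.card T ^ (2 * Nat.card (Quotient S)) := by
  classical
  have := finite_mulAut T
  have h0 : Nat.card (({i : I // rep S i ≠ i} → MulAut T) × ((Quotient S → T) × (Quotient S → T))) =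
      Nat.card (MulAut T) ^ (Fintype.card I - Nat.card (Quotient S)) * Nat.card T ^ (2 * Nat.card (Quotient S)) := by
    rw [Nat.card_prod, Nat.card_prod, Nat.card_fun, Nat.card_fun, card_rep, two_mul, pow_add]
  rw [← h0]
  refine Nat.card_le_card_of_injective (fun p : {uv : (I → T) × (I → T) // TypeII W (XX W x y R uv) S} =>
    ((fun i : {i : I // rep S i ≠ i} => p.2.choose i.1), (fun q : Quotient S => p.1.1 q.out),
      fun q : Quotient S => p.1.2 q.out)) ?_
  intro p p' hpp
  simp only [Prod.mk.injEq] at hpp
  obtain ⟨h1, h2, h3⟩ := hpp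
  obtain ⟨hε1, hε⟩ := p.2.choose_spec
  obtain ⟨hε1', hε'⟩ := p'.2.choose_spec
  have hεε : p.2.choose = p'.2.choose := by
    funext i
    by_cases hi : rep S i = i
    · rw [hε1 i hi, hε1' i hi]
    · exact congrFun h1 ⟨i, hi⟩
  rw [← hεε] at hε'
  have hx : ∀ uv : (I → T) × (I → T), x * el W uv.1 ∈ XX W x y R uv := fun uv =>
    subset_closure (Or.inl (Or.inl rfl))
  have hy : ∀ uv : (I → T) × (I → T), y * el W uv.2 ∈ XX W x y R uv := fun uv =>
    subset_closure (Or.inl (Or.inr rfl))
  apply Subtype.ext
  refine Prod.ext ?_ ?_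
  · funext i
    exact comp_eq W hna (r := rep S i) (congrFun h2 (Quotient.mk S i)) (hε _ (hx _) i) (hε' _ (hx _) i)
  · funext i
    exact comp_eq W hna (r := rep S i) (congrFun h3 (Quotient.mk S i)) (hε _ (hy _) i) (hε' _ (hy _) i)

end Cfsg.Agent.H332.DG
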